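import Groth.Agent.ResProp.EF.K624.Nodes
import Groth.Agent.ResProp.EF.K930.Nat

/-!
# J10a: killing modulo `p` implies that cocycles in lattices have `nat` coefficients (S16912, block G2b)

`killLat p H : KillModP p H → RedModP p H → KillLat H` (`k = ℤ_(p)`).

For a module `X` killed by `p` there is ONE linear map `RD.red : X ⊗ O(E) → X ⊗ O(H)`, `x ⊗ a ↦ x ⊗ b` for `a - ι b` nat; it
is natural in `X` and compatible with comultiplication and counit.  A linear map `q : N → N'` from an `E`-module to an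
`H`-module killed by `p` which respects the coactions (`Compat`) induces surjective maps `Compat.Φ n` of all Hochschild
cochains, commuting with `d`; `V / p` (`modp`) is an example, and examples can be tensored with `H`-modules.  The kernel in
degree `2` consists of cochains with `nat` coefficients (`isNat_of_Φ`).
-/

set_option autoImplicit false

universe u

open TensorProduct

noncomputable section

namespace Groth.Agent.ResProp.EF.K44

open Groth.Agent.ResProp.EF.Grp Groth.Agent.ResProp.EF.K624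

variable {k : Type u} [CommRing k]

section nat

variable {A : Type u} [CommRing A]

theorem isNat_iff (a : A) : IsNat a ↔ a ∈ K930.natIdeal A := Iff.rfl

theorem IsNat.add {a b : A} (ha : IsNat a) (hb : IsNat b) : IsNat (a + b) :=
  (K930.natIdeal A).add_mem ha hb

theorem IsNat.sub {a b : A} (ha : IsNat a) (hb : IsNat b) : IsNat (a - b) :=
  (K930.natIdeal A).sub_mem ha hb

theorem IsNat.mul_left {a : A} (b : A) (ha : IsNat a) : IsNat (b * a) :=
  (K930.natIdeal A).mul_mem_left b ha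

theorem IsNat.mul_right {a : A} (ha : IsNat a) (b : A) : IsNat (a * b) :=
  (K930.natIdeal A).mul_mem_right b ha

theorem IsNat.zero : IsNat (0 : A) := (K930.natIdeal A).zero_mem

theorem IsNat.map {B : Type u} [CommRing B] (f : A →+* B) {a : A} (ha : IsNat a) : IsNat (f a) :=
  K930.map_mem_natIdeal f ha

theorem IsNat.prime {p : ℕ} [IsLb p k] [Algebra k A] : IsNat (p : A) := by
  have hp : Fact p.Prime := ⟨IsLb.prime k⟩
  have h : IsNat (p : k) := K930.prime_mem_natIdeal p fun m hm => by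
    refine IsLb.unit_of (p := p) _ fun hd => ?_
    have h1 : IsCoprime (m : ℤ) (p : ℤ) := Nat.isCoprime_iff_coprime.2 hm
    obtain ⟨x, y, hxy⟩ := h1
    have h2 : ((x : k) * m + y * p) = 1 := by exact_mod_cast congrArg (Int.cast (R := k)) hxy
    have h3 : (p : k) ∣ 1 := h2 ▸ dvd_add (Dvd.dvd.mul_left hd _) (dvd_mul_left _ _)
    exact IsLb.not_unit (p := p) (isUnit_of_dvd_one h3)
  simpa using IsNat.map (algebraMap k A) h

theorem IsNat.pow_dvd {p : ℕ} (hp : p.Prime) {a : A} (ha : IsNat a) : (p : A) ∣ a ^ p :=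
  dvd_trans (by exact_mod_cast Nat.cast_dvd_cast (α := A) (Nat.dvd_factorial hp.pos le_rfl)) (ha p)

end nat

/-- The reduction data: a group homomorphism `ι : B → A` (on functions) and representatives `b a ∈ B` of `a ∈ A` modulo
`A^nat`. -/
structure RD (p : ℕ) (k : Type u) [CommRing k] (A B : Type u) [CommRing A] [CommRing B] [Bialgebra k A]
    [Bialgebra k B] (ι : B →ₐc[k] A) where
  b : A → B
  hb : ∀ a : A, IsNat (a - ι (b a))
  h1 : ∀ x : B, IsNat (ι x) → (p : B) ∣ x
  h2 : ∀ x : B ⊗[k] B, IsNat (Algebra.TensorProduct.map (ι : B →ₐ[k] A) (ι : B →ₐ[k] A) x) →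
    (p : B ⊗[k] B) ∣ x
  hk : ∀ r : k, IsNat r → (p : k) ∣ r

section red

variable {p : ℕ} {A B : Type u} [CommRing A] [CommRing B] [Bialgebra k A] [Bialgebra k B] {ι : B →ₐc[k] A}

/-- killed by `p` -/
def Kp (p : ℕ) (k : Type u) [CommRing k] (X : Type u) [AddCommGroup X] [Module k X] : Prop :=
  ∀ x : X, (p : k) • x = 0

variable {X : Type u} [AddCommGroup X] [Module k X]

theorem Kp.tens (hX : Kp p k X) (Y : Type u) [AddCommGroup Y] [Module k Y] : Kp p k (X ⊗[k] Y) := by
  intro z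
  induction z using TensorProduct.induction_on with
  | zero => rw [smul_zero]
  | tmul x y => rw [TensorProduct.smul_tmul', hX, TensorProduct.zero_tmul]
  | add a b ha hb => rw [smul_add, ha, hb, add_zero]

theorem tmul_eq_of_dvd (hX : Kp p k X) (x : X) {C : Type u} [CommRing C] [Algebra k C] {y z : C}
    (h : (p : C) ∣ y - z) : x ⊗ₜ[k] y = x ⊗ₜ[k] z := by
  obtain ⟨w, hw⟩ := h
  have h1 : y = z + (p : k) • w := by
    rw [Algebra.smul_def, map_natCast, ← hw]; ring
  rw [h1, TensorProduct.tmul_add, TensorProduct.tmul_smul, TensorProduct.smul_tmul', hX,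
    TensorProduct.zero_tmul, add_zero]

namespace RD

variable (D : RD p k A B ι)

theorem dvd_of {a : A} {y : B} (hy : IsNat (a - ι y)) : (p : B) ∣ D.b a - y := by
  refine D.h1 _ ?_
  have := IsNat.sub hy (D.hb a)
  have h2 : ι (D.b a - y) = (a - ι y) - (a - ι (D.b a)) := by rw [map_sub]; ring
  rw [h2]; exact this

/-- `x ⊗ a ↦ x ⊗ b a` -/
def red (hX : Kp p k X) : X ⊗[k] A →ₗ[k] X ⊗[k] B :=
  TensorProduct.lift (LinearMap.mk₂ k (fun x a => x ⊗ₜ[k] D.b a)
    (fun x y a => TensorProduct.add_tmul _ _ _)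
    (fun r x a => (TensorProduct.smul_tmul' r x (D.b a)).symm)
    (fun x a a' => by
      rw [← TensorProduct.tmul_add]
      refine tmul_eq_of_dvd hX x (D.dvd_of ?_)
      have := IsNat.add (D.hb a) (D.hb a')
      rw [map_add]
      convert this using 1
      ring)
    (fun r x a => by
      rw [← TensorProduct.tmul_smul]
      refine tmul_eq_of_dvd hX x (D.dvd_of ?_)
      have := IsNat.mul_left (algebraMap k A r) (D.hb a)
      rw [map_smul]
      convert this using 1
      rw [Algebra.smul_def, Algebra.smul_def, mul_sub]))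

theorem red_tmul (hX : Kp p k X) (x : X) (a : A) : D.red hX (x ⊗ₜ a) = x ⊗ₜ[k] D.b a := rfl

theorem red_tmul_of (hX : Kp p k X) (x : X) {a : A} {y : B} (h : IsNat (a - ι y)) :
    D.red hX (x ⊗ₜ a) = x ⊗ₜ[k] y := by
  rw [red_tmul]
  exact tmul_eq_of_dvd hX x (D.dvd_of h)

theorem red_tmul_ι (hX : Kp p k X) (x : X) (y : B) : D.red hX (x ⊗ₜ ι y) = x ⊗ₜ[k] y :=
  D.red_tmul_of hX x (by rw [sub_self]; exact IsNat.zero)

theorem red_tmul_one (hX : Kp p k X) (x : X) : D.red hX (x ⊗ₜ (1 : A)) = x ⊗ₜ[k] (1 : B) :=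
  D.red_tmul_of hX x (by rw [map_one, sub_self]; exact IsNat.zero)

theorem red_surjective (hX : Kp p k X) : Function.Surjective (D.red hX) := by
  intro z
  induction z using TensorProduct.induction_on with
  | zero => exact ⟨0, map_zero _⟩
  | tmul x y => exact ⟨_, D.red_tmul_ι hX x y⟩
  | add a b ha hb =>
    obtain ⟨a', rfl⟩ := ha
    obtain ⟨b', rfl⟩ := hb
    exact ⟨a' + b', map_add _ _ _⟩

theorem red_rTensor {Y : Type u} [AddCommGroup Y] [Module k Y] (hX : Kp p k X) (hY : Kp p k Y)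
    (g : X →ₗ[k] Y) : D.red hY ∘ₗ g.rTensor A = g.rTensor B ∘ₗ D.red hX := by
  refine TensorProduct.ext' fun x a => ?_
  rfl

/-- twice -/
def red2 (hX : Kp p k X) : (X ⊗[k] A) ⊗[k] A →ₗ[k] (X ⊗[k] B) ⊗[k] B :=
  D.red (hX.tens B) ∘ₗ (D.red hX).rTensor A

/-- `ι ⊗ ι` -/
abbrev ιι (ι : B →ₐc[k] A) : B ⊗[k] B →ₐ[k] A ⊗[k] A :=
  Algebra.TensorProduct.map (ι : B →ₐ[k] A) (ι : B →ₐ[k] A)

theorem exists_rep (w : A ⊗[k] A) : ∃ w' : B ⊗[k] B, IsNat (w - ιι ι w') ∧
    ∀ (X : Type u) [AddCommGroup X] [Module k X] (hX : Kp p k X) (x : X),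
      D.red2 hX ((TensorProduct.assoc k X A A).symm (x ⊗ₜ w)) =
        (TensorProduct.assoc k X B B).symm (x ⊗ₜ w') := by
  induction w using TensorProduct.induction_on with
  | zero =>
    refine ⟨0, ?_, fun X _ _ hX x => ?_⟩
    · rw [map_zero, sub_zero]; exact IsNat.zero
    · rw [TensorProduct.tmul_zero, TensorProduct.tmul_zero, map_zero, map_zero, map_zero]
  | tmul a a' =>
    refine ⟨D.b a ⊗ₜ D.b a', ?_, fun X _ _ hX x => rfl⟩
    have h1 : a ⊗ₜ[k] a' - ιι ι (D.b a ⊗ₜ D.b a') =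
        (Algebra.TensorProduct.includeLeftRingHom : A →+* A ⊗[k] A) (a - ι (D.b a)) * ((1 : A) ⊗ₜ[k] a') +
        (ι (D.b a) ⊗ₜ[k] (1 : A)) *
          ((Algebra.TensorProduct.includeRight : A →ₐ[k] A ⊗[k] A) : A →+* A ⊗[k] A) (a' - ι (D.b a')) := by
      change a ⊗ₜ[k] a' - ι (D.b a) ⊗ₜ[k] ι (D.b a') =
        ((a - ι (D.b a)) ⊗ₜ[k] (1 : A)) * ((1 : A) ⊗ₜ[k] a') +
        (ι (D.b a) ⊗ₜ[k] (1 : A)) * ((1 : A) ⊗ₜ[k] (a' - ι (D.b a')))
      rw [Algebra.TensorProduct.tmul_mul_tmul, Algebra.TensorProduct.tmul_mul_tmul, mul_one, one_mul,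
        mul_one, one_mul, TensorProduct.sub_tmul, TensorProduct.tmul_sub]
      abel
    rw [h1]
    exact IsNat.add (IsNat.mul_right (IsNat.map _ (D.hb a)) _)
      (IsNat.mul_left _ (IsNat.map _ (D.hb a')))
  | add w v hw hv =>
    obtain ⟨w', hw1, hw2⟩ := hw
    obtain ⟨v', hv1, hv2⟩ := hv
    refine ⟨w' + v', ?_, fun X _ _ hX x => ?_⟩
    · have := IsNat.add hw1 hv1
      rw [map_add]
      convert this using 1
      ring
    · rw [TensorProduct.tmul_add, TensorProduct.tmul_add, map_add, map_add, map_add, hw2 X hX, hv2 X hX]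

theorem red2_of (hX : Kp p k X) (x : X) {w : A ⊗[k] A} {y : B ⊗[k] B} (h : IsNat (w - ιι ι y)) :
    D.red2 hX ((TensorProduct.assoc k X A A).symm (x ⊗ₜ w)) =
      (TensorProduct.assoc k X B B).symm (x ⊗ₜ y) := by
  obtain ⟨w', h1, h2⟩ := D.exists_rep w
  rw [h2 X hX]
  congr 1
  refine tmul_eq_of_dvd hX x (D.h2 _ ?_)
  have := IsNat.sub h h1
  have h3 : ιι ι (w' - y) = (w - ιι ι y) - (w - ιι ι w') := by rw [map_sub]; ring
  rw [h3]; exact this

theorem nat_comul (a : A) : IsNat (Coalgebra.comul (R := k) a -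
    ιι ι (Coalgebra.comul (R := k) (D.b a))) := by
  have h1 : ιι ι (Coalgebra.comul (R := k) (D.b a)) = Coalgebra.comul (R := k) (ι (D.b a)) := by
    have := LinearMap.congr_fun (CoalgHomClass.map_comp_comul (R := k) ι) (D.b a)
    exact this
  have h2 := IsNat.map ((Bialgebra.comulAlgHom k A : A →ₐ[k] A ⊗[k] A) : A →+* A ⊗[k] A) (D.hb a)
  rw [h1]
  have h3 : ((Bialgebra.comulAlgHom k A : A →ₐ[k] A ⊗[k] A) : A →+* A ⊗[k] A) (a - ι (D.b a)) =
      Coalgebra.comul (R := k) a - Coalgebra.comul (R := k) (ι (D.b a)) := map_sub _ _ _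
  rw [← h3]
  exact h2

theorem red2_comul (hX : Kp p k X) (x : X) (a : A) :
    D.red2 hX ((TensorProduct.assoc k X A A).symm (x ⊗ₜ Coalgebra.comul (R := k) a)) =
      (TensorProduct.assoc k X B B).symm (x ⊗ₜ Coalgebra.comul (R := k) (D.b a)) :=
  D.red2_of hX x (D.nat_comul a)

theorem red2_tail (hX : Kp p k X) :
    D.red2 hX ∘ₗ Hoch.tail k A X = Hoch.tail k B X ∘ₗ D.red hX := by
  refine TensorProduct.ext' fun x a => ?_
  rw [LinearMap.comp_apply, LinearMap.comp_apply, Hoch.tail_tmul, red_tmul, Hoch.tail_tmul]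
  refine D.red2_of hX x ?_
  have h1 := D.nat_comul a
  have h2 := IsNat.map (Algebra.TensorProduct.includeLeftRingHom : A →+* A ⊗[k] A) (D.hb a)
  have h3 := IsNat.map ((Algebra.TensorProduct.includeRight : A →ₐ[k] A ⊗[k] A) : A →+* A ⊗[k] A) (D.hb a)
  have h4 := IsNat.sub (IsNat.sub h1 h2) h3
  have h5 : (Coalgebra.comul (R := k) a - a ⊗ₜ[k] (1 : A) - (1 : A) ⊗ₜ[k] a) -
      ιι ι (Coalgebra.comul (R := k) (D.b a) - D.b a ⊗ₜ[k] (1 : B) - (1 : B) ⊗ₜ[k] D.b a) =
      (Coalgebra.comul (R := k) a - ιι ι (Coalgebra.comul (R := k) (D.b a))) -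
        (a - ι (D.b a)) ⊗ₜ[k] (1 : A) - (1 : A) ⊗ₜ[k] (a - ι (D.b a)) := by
    rw [map_sub, map_sub, TensorProduct.sub_tmul, TensorProduct.tmul_sub,
      Algebra.TensorProduct.map_tmul, Algebra.TensorProduct.map_tmul, map_one]
    change _ - (_ - ι (D.b a) ⊗ₜ[k] (1 : A) - (1 : A) ⊗ₜ[k] ι (D.b a)) = _
    abel
  rw [h5]
  exact h4

end RD

end red

section complex

variable {p : ℕ} {E H : Gp k} {ι : H.O →ₐc[k] E.O} (D : RD p k E.O H.O ι)

/-- A linear map from an `E`-module to an `H`-module killed by `p`, compatible with the coactions. -/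
structure Compat (D : RD p k E.O H.O ι) (N : GMod E) (N' : GMod H) where
  kp : Kp p k N'.V
  q : N.V →ₗ[k] N'.V
  surj : Function.Surjective q
  coact : (HopfRep.Comod.coact (k := k) (A := H.O) : N'.V →ₗ[k] N'.V ⊗[k] H.O) ∘ₗ q =
    D.red kp ∘ₗ q.rTensor E.O ∘ₗ (HopfRep.Comod.coact (k := k) (A := E.O))

namespace Compat

variable {D} {N : GMod E} {N' : GMod H} (Q : Compat D N N')

include Q in
theorem kpC : (n : ℕ) → Kp p k (N'.C n)
  | 0 => Q.kp
  | n + 1 => (kpC n).tens H.O

/-- the map of complexes -/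
def Φ : (n : ℕ) → (N.C n →ₗ[k] N'.C n)
  | 0 => Q.q
  | n + 1 => D.red (Q.kpC n) ∘ₗ (Φ n).rTensor E.O

theorem Φ_succ (n : ℕ) : Q.Φ (n + 1) = D.red (Q.kpC n) ∘ₗ (Q.Φ n).rTensor E.O := rfl

theorem Φ_surjective (n : ℕ) : Function.Surjective (Q.Φ n) := by
  induction n with
  | zero => exact Q.surj
  | succ n ih =>
    exact (D.red_surjective (Q.kpC n)).comp (LinearMap.rTensor_surjective E.O ih)

theorem Φ_d (n : ℕ) : N'.d n ∘ₗ Q.Φ n = Q.Φ (n + 1) ∘ₗ N.d n := by
  induction n with
  | zero =>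
    refine LinearMap.ext fun v => ?_
    have h1 := LinearMap.congr_fun Q.coact v
    change Hoch.d k H.O N'.V 0 (Q.q v) = D.red Q.kp (Q.q.rTensor E.O (Hoch.d k E.O N.V 0 v))
    rw [Hoch.d_zero_apply, Hoch.d_zero_apply, map_sub, map_sub, LinearMap.rTensor_tmul,
      D.red_tmul_one Q.kp]
    congr 1
  | succ n ih =>
    have h1 : (Hoch.d k H.O N'.V n).rTensor H.O ∘ₗ D.red (Q.kpC n) =
        D.red (Q.kpC (n + 1)) ∘ₗ (Hoch.d k H.O N'.V n).rTensor E.O :=
      (D.red_rTensor (Q.kpC n) (Q.kpC (n + 1)) (Hoch.d k H.O N'.V n)).symm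
    have h2 := D.red2_tail (Q.kpC n)
    refine LinearMap.ext fun z => ?_
    change Hoch.d k H.O N'.V (n + 1) (D.red (Q.kpC n) ((Q.Φ n).rTensor E.O z)) =
      D.red (Q.kpC (n + 1)) ((Q.Φ (n + 1)).rTensor E.O (Hoch.d k E.O N.V (n + 1) z))
    rw [Hoch.d_succ, Hoch.d_succ, LinearMap.add_apply, LinearMap.add_apply, map_add, map_add]
    congr 1
    · have h3 := LinearMap.congr_fun h1 ((Q.Φ n).rTensor E.O z)
      refine h3.trans ?_
      refine congrArg (D.red (Q.kpC (n + 1))) ?_
      have h4 : (Hoch.d k H.O N'.V n).rTensor E.O ∘ₗ (Q.Φ n).rTensor E.O =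
          (Q.Φ (n + 1)).rTensor E.O ∘ₗ (Hoch.d k E.O N.V n).rTensor E.O := by
        rw [← LinearMap.rTensor_comp, ← LinearMap.rTensor_comp]
        exact congrArg (LinearMap.rTensor E.O) ih
      exact LinearMap.congr_fun h4 z
    · rw [LinearMap.smul_apply, LinearMap.smul_apply, map_smul, map_smul]
      congr 1
      have h3 := LinearMap.congr_fun h2 ((Q.Φ n).rTensor E.O z)
      refine h3.symm.trans ?_
      refine congrArg (D.red (Q.kpC (n + 1))) ?_
      change (D.red (Q.kpC n)).rTensor E.O (Hoch.tail k E.O (N'.C n) ((Q.Φ n).rTensor E.O z)) =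
        (D.red (Q.kpC n) ∘ₗ (Q.Φ n).rTensor E.O).rTensor E.O (Hoch.tail k E.O (N.C n) z)
      rw [LinearMap.rTensor_comp, LinearMap.comp_apply]
      congr 1
      have h5 : Hoch.tail k E.O (N'.C n) ∘ₗ (Q.Φ n).rTensor E.O =
          ((Q.Φ n).rTensor E.O).rTensor E.O ∘ₗ Hoch.tail k E.O (N.C n) := by
        refine TensorProduct.ext' fun x a => ?_
        rw [LinearMap.comp_apply, LinearMap.comp_apply, LinearMap.rTensor_tmul, Hoch.tail_tmul,
          Hoch.tail_tmul]
        have h6 : ∀ w : E.O ⊗[k] E.O,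
            (TensorProduct.assoc k (N'.C n) E.O E.O).symm (Q.Φ n x ⊗ₜ w) =
            ((Q.Φ n).rTensor E.O).rTensor E.O ((TensorProduct.assoc k (N.C n) E.O E.O).symm (x ⊗ₜ w)) := by
          intro w
          induction w using TensorProduct.induction_on with
          | zero => simp only [TensorProduct.tmul_zero, map_zero]
          | tmul a b => rfl
          | add a b ha hb => simp only [TensorProduct.tmul_add, map_add, ha, hb]
        exact h6 _
      exact LinearMap.congr_fun h5 z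

theorem Φ_cmap {W : GMod E} {W' : GMod H} (Q' : Compat D W W') (g : N.V →ₗ[k] W.V)
    (g' : N'.V →ₗ[k] W'.V) (hg : Q'.q ∘ₗ g = g' ∘ₗ Q.q) (n : ℕ) :
    Q'.Φ n ∘ₗ cmap N W g n = cmap N' W' g' n ∘ₗ Q.Φ n := by
  induction n with
  | zero => exact hg
  | succ n ih =>
    refine LinearMap.ext fun z => ?_
    change D.red (Q'.kpC n) ((Q'.Φ n).rTensor E.O ((cmap N W g n).rTensor E.O z)) =
      (cmap N' W' g' n).rTensor H.O (D.red (Q.kpC n) ((Q.Φ n).rTensor E.O z))
    have h1 : (Q'.Φ n).rTensor E.O ∘ₗ (cmap N W g n).rTensor E.O =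
        (cmap N' W' g' n).rTensor E.O ∘ₗ (Q.Φ n).rTensor E.O := by
      rw [← LinearMap.rTensor_comp, ← LinearMap.rTensor_comp]
      exact congrArg (LinearMap.rTensor E.O) ih
    have h2 := D.red_rTensor (Q.kpC n) (Q'.kpC n) (cmap N' W' g' n)
    have h3 := LinearMap.congr_fun h1 z
    have h4 := LinearMap.congr_fun h2 ((Q.Φ n).rTensor E.O z)
    exact (congrArg (D.red (Q'.kpC n)) h3).trans h4

end Compat

end complex

section modp

variable {p : ℕ} {E H : Gp k} {ι : H.O →ₐc[k] E.O} (D : RD p k E.O H.O ι) (V : GMod E)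

/-- `V / p` -/
abbrev Vp (p : ℕ) {E : Gp k} (V : GMod E) : Type u :=
  V.V ⧸ (LinearMap.range ((p : k) • (LinearMap.id : V.V →ₗ[k] V.V)))

/-- the projection -/
abbrev prj (p : ℕ) {E : Gp k} (V : GMod E) : V.V →ₗ[k] Vp p V := Submodule.mkQ _

theorem kpVp : Kp p k (Vp p V) := by
  intro x
  obtain ⟨v, rfl⟩ := Submodule.mkQ_surjective _ x
  rw [← map_smul, Submodule.mkQ_apply, Submodule.Quotient.mk_eq_zero]
  exact ⟨v, rfl⟩

/-- the coaction on `V / p` -/
def coactp : Vp p V →ₗ[k] Vp p V ⊗[k] H.O :=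
  Submodule.liftQ _ (D.red (kpVp V) ∘ₗ (prj p V).rTensor E.O ∘ₗ
    (HopfRep.Comod.coact (k := k) (A := E.O))) (by
    rintro _ ⟨v, rfl⟩
    rw [LinearMap.mem_ker, LinearMap.smul_apply, LinearMap.id_apply, map_smul]
    exact (kpVp V).tens H.O _)

theorem coactp_prj : coactp D V ∘ₗ prj p V = D.red (kpVp V) ∘ₗ (prj p V).rTensor E.O ∘ₗ
    (HopfRep.Comod.coact (k := k) (A := E.O)) := Submodule.liftQ_mkQ _ _ _

theorem lTensor_comul_red {X : Type u} [AddCommGroup X] [Module k X] (hX : Kp p k X)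
    (z : X ⊗[k] E.O) : (CoalgebraStruct.comul (R := k) (A := H.O)).lTensor X (D.red hX z) =
      TensorProduct.assoc k X H.O H.O (D.red2 hX ((TensorProduct.assoc k X E.O E.O).symm
        ((CoalgebraStruct.comul (R := k) (A := E.O)).lTensor X z))) := by
  induction z using TensorProduct.induction_on with
  | zero => simp only [map_zero]
  | add a b ha hb => simp only [map_add, ha, hb]
  | tmul x a =>
    rw [D.red_tmul, LinearMap.lTensor_tmul, LinearMap.lTensor_tmul]
    have := D.red2_comul hX x a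
    rw [this, LinearEquiv.apply_symm_apply]

theorem nat_counit (a : E.O) : (p : k) ∣ Coalgebra.counit (R := k) (D.b a) - Coalgebra.counit (R := k) a := by
  have h1 := IsNat.map ((Bialgebra.counitAlgHom k E.O : E.O →ₐ[k] k) : E.O →+* k) (D.hb a)
  have h2 : ((Bialgebra.counitAlgHom k E.O : E.O →ₐ[k] k) : E.O →+* k) (a - ι (D.b a)) =
      Coalgebra.counit (R := k) a - Coalgebra.counit (R := k) (D.b a) := by
    rw [map_sub]
    congr 1
    have := LinearMap.congr_fun (CoalgHomClass.counit_comp (R := k) ι) (D.b a)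
    exact this
  rw [h2] at h1
  have := D.hk _ h1
  rw [← neg_sub, dvd_neg]
  exact this

/-- the comodule `V / p` over `O(H)` -/
@[reducible] def comodp : HopfRep.Comod k H.O (Vp p V) where
  coact := coactp D V
  coassoc := by
    refine LinearMap.ext fun x => ?_
    obtain ⟨v, rfl⟩ := Submodule.mkQ_surjective _ x
    have h0 : ∀ v, coactp D V (prj p V v) = D.red (kpVp V) ((prj p V).rTensor E.O
      (HopfRep.Comod.coact (k := k) (A := E.O) v)) := fun v => LinearMap.congr_fun (coactp_prj D V) v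
    change TensorProduct.assoc k (Vp p V) H.O H.O ((coactp D V).rTensor H.O (coactp D V (prj p V v))) =
      (CoalgebraStruct.comul (R := k) (A := H.O)).lTensor (Vp p V) (coactp D V (prj p V v))
    rw [h0, lTensor_comul_red]
    congr 1
    have h1 := LinearMap.congr_fun (D.red_rTensor (kpVp V) ((kpVp V).tens H.O) (coactp D V))
      ((prj p V).rTensor E.O (HopfRep.Comod.coact (k := k) (A := E.O) v))
    refine h1.symm.trans ?_
    change D.red ((kpVp V).tens H.O) ((coactp D V).rTensor E.O ((prj p V).rTensor E.O _)) =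
      D.red ((kpVp V).tens H.O) ((D.red (kpVp V)).rTensor E.O _)
    congr 1
    rw [← LinearMap.comp_apply (LinearMap.rTensor E.O (coactp D V)), ← LinearMap.rTensor_comp,
      coactp_prj, LinearMap.rTensor_comp, LinearMap.comp_apply]
    congr 1
    rw [LinearMap.rTensor_comp, LinearMap.comp_apply]
    have h2 := LinearMap.congr_fun (HopfRep.Comod.coassoc (k := k) (A := E.O) (V := V.V)) v
    have h3 : (HopfRep.Comod.coact (k := k) (A := E.O) (V := V.V)).rTensor E.O
        (HopfRep.Comod.coact (k := k) (A := E.O) v) = (TensorProduct.assoc k V.V E.O E.O).symm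
          ((CoalgebraStruct.comul (R := k) (A := E.O)).lTensor V.V
            (HopfRep.Comod.coact (k := k) (A := E.O) v)) := by
      rw [LinearEquiv.eq_symm_apply]
      exact h2
    rw [h3]
    generalize (HopfRep.Comod.coact (k := k) (A := E.O) v : V.V ⊗[k] E.O) = z
    induction z using TensorProduct.induction_on with
    | zero => simp only [map_zero]
    | add a b ha hb => simp only [map_add, ha, hb]
    | tmul x a =>
      rw [LinearMap.lTensor_tmul, LinearMap.rTensor_tmul, LinearMap.lTensor_tmul]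
      generalize (CoalgebraStruct.comul (R := k) a : E.O ⊗[k] E.O) = w
      induction w using TensorProduct.induction_on with
      | zero => simp only [map_zero, TensorProduct.tmul_zero]
      | add a b ha hb => simp only [map_add, TensorProduct.tmul_add, ha, hb]
      | tmul a b => rfl
  counit_comp := by
    refine LinearMap.ext fun x => ?_
    obtain ⟨v, rfl⟩ := Submodule.mkQ_surjective _ x
    have h0 : coactp D V (prj p V v) = D.red (kpVp V) ((prj p V).rTensor E.O
      (HopfRep.Comod.coact (k := k) (A := E.O) v)) := LinearMap.congr_fun (coactp_prj D V) v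
    change (CoalgebraStruct.counit (R := k) (A := H.O)).lTensor (Vp p V) (coactp D V (prj p V v)) =
      prj p V v ⊗ₜ 1
    rw [h0]
    have h1 : ∀ z : Vp p V ⊗[k] E.O, (CoalgebraStruct.counit (R := k) (A := H.O)).lTensor (Vp p V)
        (D.red (kpVp V) z) = (CoalgebraStruct.counit (R := k) (A := E.O)).lTensor (Vp p V) z := by
      intro z
      induction z using TensorProduct.induction_on with
      | zero => simp only [map_zero]
      | add a b ha hb => simp only [map_add, ha, hb]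
      | tmul x a =>
        rw [D.red_tmul, LinearMap.lTensor_tmul, LinearMap.lTensor_tmul]
        exact tmul_eq_of_dvd (kpVp V) x (nat_counit D a)
    rw [h1]
    have h2 := LinearMap.congr_fun (HopfRep.Comod.counit_comp (k := k) (A := E.O) (V := V.V)) v
    have h3 := congrArg ((prj p V).rTensor k) h2
    refine Eq.trans ?_ h3
    change _ = (prj p V).rTensor k ((CoalgebraStruct.counit (R := k) (A := E.O)).lTensor V.V
      (HopfRep.Comod.coact (k := k) (A := E.O) v))
    generalize (HopfRep.Comod.coact (k := k) (A := E.O) v : V.V ⊗[k] E.O) = z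
    induction z using TensorProduct.induction_on with
    | zero => simp only [map_zero]
    | add a b ha hb => simp only [map_add, ha, hb]
    | tmul x a => rfl

/-- the module `V / p` over the group `H` -/
@[reducible] def modp : GMod H where
  V := Vp p V
  co := comodp D V

/-- the projection is compatible -/
def compatp : Compat D V (modp D V) where
  kp := kpVp V
  q := prj p V
  surj := Submodule.mkQ_surjective _
  coact := coactp_prj D V

end modp

section tens

variable {p : ℕ} {E H : Gp k} {ι : H.O →ₐc[k] E.O} {D : RD p k E.O H.O ι} {N : GMod E} {N' : GMod H}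

/-- multiply the two ring factors -/
def mm (N T A : Type u) [AddCommGroup N] [Module k N] [AddCommGroup T] [Module k T] [CommRing A]
    [Algebra k A] : (N ⊗[k] A) ⊗[k] (T ⊗[k] A) →ₗ[k] (N ⊗[k] T) ⊗[k] A :=
  TensorProduct.map LinearMap.id (LinearMap.mul' k A) ∘ₗ
    (AlgebraTensorModule.tensorTensorTensorComm k k k k N A T A).toLinearMap

theorem mm_tmul {N T A : Type u} [AddCommGroup N] [Module k N] [AddCommGroup T] [Module k T] [CommRing A]
    [Algebra k A] (n : N) (a : A) (t : T) (b : A) :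
    mm (k := k) N T A ((n ⊗ₜ a) ⊗ₜ (t ⊗ₜ b)) = (n ⊗ₜ t) ⊗ₜ (a * b) := rfl

theorem red_mm {X X' : Type u} [AddCommGroup X] [Module k X] [AddCommGroup X'] [Module k X']
    (hX : Kp p k X') (q : X →ₗ[k] X')
    {T : Type u} [AddCommGroup T] [Module k T] (z : X ⊗[k] E.O) (y : T ⊗[k] H.O) :
    D.red (hX.tens T) ((q.rTensor T).rTensor E.O (mm (k := k) X T E.O (z ⊗ₜ
      (TensorProduct.map LinearMap.id (ι : H.O →ₗ[k] E.O) y)))) =
      mm (k := k) X' T H.O (D.red hX (q.rTensor E.O z) ⊗ₜ y) := by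
  induction z using TensorProduct.induction_on with
  | zero => simp only [map_zero, TensorProduct.zero_tmul]
  | add a b ha hb => simp only [map_add, TensorProduct.add_tmul, ha, hb]
  | tmul x a =>
    induction y using TensorProduct.induction_on with
    | zero => simp only [map_zero, TensorProduct.tmul_zero]
    | add a b ha hb => simp only [map_add, TensorProduct.tmul_add, ha, hb]
    | tmul t h =>
      rw [TensorProduct.map_tmul, mm_tmul, LinearMap.rTensor_tmul, LinearMap.rTensor_tmul,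
        LinearMap.rTensor_tmul, D.red_tmul hX, mm_tmul]
      refine D.red_tmul_of _ _ ?_
      have h1 := IsNat.mul_right (D.hb a) (ι h)
      rw [sub_mul] at h1
      rw [map_mul]
      exact h1

/-- tensoring a compatible map with a module over `H` -/
def Compat.tens (Q : Compat D N N') (T : GMod H) : Compat D (N.tens (T.res ι)) (N'.tens T) where
  kp := Q.kp.tens T.V
  q := Q.q.rTensor T.V
  surj := LinearMap.rTensor_surjective T.V Q.surj
  coact := by
    refine TensorProduct.ext' fun v t => ?_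
    have h1 := LinearMap.congr_fun Q.coact v
    have h2 := red_mm (D := D) Q.kp Q.q (T := T.V) (HopfRep.Comod.coact (k := k) (A := E.O) v)
      (T.co.coact t)
    refine Eq.trans ?_ h2.symm
    change mm (k := k) N'.V T.V H.O (N'.co.coact (Q.q v) ⊗ₜ T.co.coact t) = _
    congr 2

theorem ker_rTensor {V M T : Type u} [AddCommGroup V] [Module k V] [AddCommGroup M] [Module k M]
    [AddCommGroup T] [Module k T] (q : V →ₗ[k] M) (hq : Function.Surjective q)
    (hk : LinearMap.ker q ≤ LinearMap.range ((p : k) • (LinearMap.id : V →ₗ[k] V))) :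
    LinearMap.ker (q.rTensor T) ≤ LinearMap.range ((p : k) • (LinearMap.id : V ⊗[k] T →ₗ[k] V ⊗[k] T)) := by
  have h := rTensor_exact T (f := (LinearMap.ker q).subtype) (g := q)
    (LinearMap.exact_subtype_ker_map q) hq
  intro z hz
  obtain ⟨w, rfl⟩ := (h z).1 hz
  induction w using TensorProduct.induction_on with
  | zero => rw [map_zero]; exact Submodule.zero_mem _
  | add a b ha hb =>
    rw [map_add]
    refine Submodule.add_mem _ (ha ?_) (hb ?_)
    · exact (h _).2 ⟨a, rfl⟩
    · exact (h _).2 ⟨b, rfl⟩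
  | tmul x t =>
    obtain ⟨y, hy⟩ := hk x.2
    refine ⟨y ⊗ₜ t, ?_⟩
    rw [LinearMap.rTensor_tmul]
    change (p : k) • (y ⊗ₜ[k] t) = (x : V) ⊗ₜ[k] t
    rw [TensorProduct.smul_tmul']
    congr 1

end tens

section kernel

variable {p : ℕ} {E H : Gp k} {ι : H.O →ₐc[k] E.O} {D : RD p k E.O H.O ι} {N : GMod E}
  {N' : GMod H}

/-- the residue ring as a module -/
abbrev kap (p : ℕ) (k : Type u) [CommRing k] : Type u := k ⧸ (Ideal.span {(p : k)})

theorem kpkap : Kp p k (kap p k) := by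
  intro x
  obtain ⟨v, rfl⟩ := Ideal.Quotient.mk_surjective x
  change Ideal.Quotient.mk _ ((p : k) * v) = 0
  exact Ideal.Quotient.eq_zero_iff_mem.2 (Ideal.mul_mem_right _ _ (Ideal.mem_span_singleton_self _))

theorem dvd_of_tmul {C : Type u} [CommRing C] [Algebra k C] (w : C)
    (h : (1 : kap p k) ⊗ₜ[k] w = 0) : (p : C) ∣ w := by
  have h1 := congrArg (TensorProduct.quotTensorEquivQuotSMul C (Ideal.span {(p : k)})) h
  rw [TensorProduct.quotTensorEquivQuotSMul_mk_one_tmul, map_zero, Submodule.Quotient.mk_eq_zero] at h1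
  rw [Submodule.ideal_span_singleton_smul, Submodule.mem_smul_pointwise_iff_exists] at h1
  obtain ⟨y, -, hy⟩ := h1
  refine ⟨y, ?_⟩
  rw [← hy, Algebra.smul_def, map_natCast]

theorem isNat_of_Φ [IsLb p k] (Q : Compat D N N')
    (hk : LinearMap.ker Q.q ≤ LinearMap.range ((p : k) • (LinearMap.id : N.V →ₗ[k] N.V)))
    (w : N.C 2) (hw : Q.Φ 2 w = 0) (f : N.V →ₗ[k] k) :
    IsNat (coef2 (k := k) (A := E.O) f w) := by
  let m : k →ₗ[k] kap p k := Submodule.mkQ (Ideal.span {(p : k)})
  -- the induced functional on `N'`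
  have hle : LinearMap.ker Q.q ≤ LinearMap.ker (m ∘ₗ f) := by
    intro x hx
    obtain ⟨y, rfl⟩ := hk hx
    rw [LinearMap.mem_ker, LinearMap.smul_apply, LinearMap.id_apply, map_smul]
    exact kpkap _
  obtain ⟨fb, hfb⟩ : ∃ fb : N'.V →ₗ[k] kap p k, fb ∘ₗ Q.q = m ∘ₗ f := by
    refine ⟨(LinearMap.ker Q.q).liftQ (m ∘ₗ f) hle ∘ₗ
      (Q.q.quotKerEquivOfSurjective Q.surj).symm.toLinearMap, LinearMap.ext fun x => ?_⟩
    change (LinearMap.ker Q.q).liftQ (m ∘ₗ f) hle ((Q.q.quotKerEquivOfSurjective Q.surj).symm (Q.q x)) = _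
    have h1 : (Q.q.quotKerEquivOfSurjective Q.surj).symm (Q.q x) = Submodule.Quotient.mk x := by
      rw [LinearEquiv.symm_apply_eq]; rfl
    rw [h1]
    rfl
  -- reduce to `kap`
  have h2 : ((fb.rTensor H.O).rTensor H.O) (Q.Φ 2 w) =
      D.red2 (kpkap (p := p) (k := k)) (((m ∘ₗ f).rTensor E.O).rTensor E.O w) := by
    rw [← hfb, LinearMap.rTensor_comp, LinearMap.rTensor_comp]
    have h3 := LinearMap.congr_fun (D.red_rTensor (Q.kp.tens H.O) ((kpkap (p := p) (k := k)).tens H.O)
      (fb.rTensor H.O)) ((Q.Φ 1).rTensor E.O w)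
    refine h3.symm.trans ?_
    change D.red ((kpkap (p := p) (k := k)).tens H.O)
      ((fb.rTensor H.O).rTensor E.O ((D.red Q.kp ∘ₗ Q.q.rTensor E.O).rTensor E.O w)) =
      D.red ((kpkap (p := p) (k := k)).tens H.O) ((D.red kpkap).rTensor E.O
        (((fb.rTensor E.O).rTensor E.O) ((Q.q.rTensor E.O).rTensor E.O w)))
    congr 1
    have h4 : (fb.rTensor H.O) ∘ₗ D.red Q.kp = D.red kpkap ∘ₗ fb.rTensor E.O :=
      (D.red_rTensor Q.kp kpkap fb).symm
    have h5 : ((fb.rTensor H.O).rTensor E.O) ∘ₗ ((D.red Q.kp ∘ₗ Q.q.rTensor E.O).rTensor E.O) =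
        ((D.red kpkap).rTensor E.O) ∘ₗ ((fb.rTensor E.O).rTensor E.O) ∘ₗ
          ((Q.q.rTensor E.O).rTensor E.O) := by
      rw [← LinearMap.rTensor_comp, ← LinearMap.rTensor_comp, ← LinearMap.rTensor_comp,
        ← LinearMap.comp_assoc, h4, LinearMap.comp_assoc]
    exact LinearMap.congr_fun h5 w
  rw [hw, map_zero] at h2
  -- compare with the coefficient
  have h6 : ((m ∘ₗ f).rTensor E.O).rTensor E.O w = (TensorProduct.assoc k (kap p k) E.O E.O).symm
      ((1 : kap p k) ⊗ₜ coef2 (k := k) (A := E.O) f w) := by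
    clear h2 hw
    change (N.V ⊗[k] E.O) ⊗[k] E.O at w
    induction w using TensorProduct.induction_on with
    | zero => simp only [map_zero, TensorProduct.tmul_zero]
    | add a b ha hb => simp only [map_add, TensorProduct.tmul_add, ha, hb]
    | tmul x c =>
      induction x using TensorProduct.induction_on with
      | zero => simp only [map_zero, TensorProduct.zero_tmul, TensorProduct.tmul_zero]
      | add a b ha hb => simp only [map_add, TensorProduct.tmul_add, TensorProduct.add_tmul, ha, hb]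
      | tmul v a =>
        rw [LinearMap.rTensor_tmul, LinearMap.rTensor_tmul]
        change (m (f v) ⊗ₜ[k] a) ⊗ₜ[k] c = (TensorProduct.assoc k (kap p k) E.O E.O).symm
          ((1 : kap p k) ⊗ₜ[k] ((f v • a) ⊗ₜ[k] c))
        rw [TensorProduct.assoc_symm_tmul, ← TensorProduct.smul_tmul]
        congr 2
        change Ideal.Quotient.mk _ (f v) = Ideal.Quotient.mk _ (f v * 1)
        rw [mul_one]
  rw [h6] at h2
  obtain ⟨w', h7, h8⟩ := D.exists_rep (coef2 (k := k) (A := E.O) f w)
  rw [h8 _ kpkap] at h2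
  have h9 : (1 : kap p k) ⊗ₜ[k] w' = 0 := by
    have := congrArg (TensorProduct.assoc k (kap p k) H.O H.O) h2
    rw [LinearEquiv.apply_symm_apply, map_zero] at this
    exact this.symm
  obtain ⟨y, hy⟩ := dvd_of_tmul w' h9
  have h10 : IsNat (RD.ιι ι w') := by
    rw [hy, map_mul, map_natCast]
    exact IsNat.mul_right (IsNat.prime (k := k)) _
  have := IsNat.add h7 h10
  rwa [sub_add_cancel] at this

end kernel

section final

variable {p : ℕ} {E H : Gp k} {ι : H.O →ₐc[k] E.O}

theorem dvd_of_isNat_retr {A B : Type u} [CommRing A] [CommRing B] [Algebra k A] [Algebra k B]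
    (hp : p.Prime) (i : B →ₐ[k] A) (r : A →ₗ[k] B) (hr : ∀ b, r (i b) = b)
    (hB : ∀ a : B, (p : B) ∣ a ^ p → (p : B) ∣ a) (x : B) (hx : IsNat (i x)) : (p : B) ∣ x := by
  refine hB x ?_
  obtain ⟨y, hy⟩ := IsNat.pow_dvd hp hx
  refine ⟨r y, ?_⟩
  have h1 : i (x ^ p) = (p : k) • y := by
    rw [map_pow, hy, Algebra.smul_def, map_natCast]
  have h2 := congrArg r h1
  rw [hr, map_smul, Algebra.smul_def, map_natCast] at h2
  exact h2

/-- the reduction data of an admissible group -/
def rdOf [IsLb p k] (hI : Inv ι) (hR : RedModP p H) : RD p k E.O H.O ι where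
  b a := (hI.1 a).choose
  hb a := (hI.1 a).choose_spec
  h1 := by
    obtain ⟨r, hr⟩ := hI.2
    exact dvd_of_isNat_retr (IsLb.prime k) (ι : H.O →ₐ[k] E.O) r hr hR.1
  h2 := by
    obtain ⟨r, hr⟩ := hI.2
    refine dvd_of_isNat_retr (IsLb.prime k) _ (TensorProduct.map r r) (fun b => ?_) hR.2.1
    induction b using TensorProduct.induction_on with
    | zero => simp only [map_zero]
    | add a b ha hb => simp only [map_add, ha, hb]
    | tmul a b =>
      rw [Algebra.TensorProduct.map_tmul, TensorProduct.map_tmul]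
      exact congrArg₂ (fun x y => x ⊗ₜ[k] y) (hr a) (hr b)
  hk r hr := by
    by_contra h
    have h1 := (IsLb.unit_of (p := p) r h).pow p
    exact IsLb.not_unit (p := p) (isUnit_of_dvd_unit (IsNat.pow_dvd (IsLb.prime k) hr) h1)

/-- **J10a.** -/
theorem killLat (p : ℕ) [IsLb p k] (H : Gp k) (hM : KillModP p H) (hR : RedModP p H) : KillLat H := by
  intro E ι hI V _ _ c hc
  let D := rdOf hI hR
  let Q := compatp D V
  have hc' : (modp D V).d 2 (Q.Φ 2 c) = 0 := by
    have h1 : (modp D V).d 2 (Q.Φ 2 c) = Q.Φ 3 (V.d 2 c) := LinearMap.congr_fun (Q.Φ_d 2) c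
    rw [h1, hc, map_zero]
  have hfin : Module.Finite k (modp D V).V := Module.Finite.of_surjective _ Q.surj
  obtain ⟨T, hT, e, bb, hbb⟩ := hM (modp D V) hfin Q.kp (Q.Φ 2 c) hc'
  let Q' : Compat D (V.tens (e.mod.res ι)) ((modp D V).tens e.mod) := Q.tens e.mod
  obtain ⟨b, hb⟩ := Q'.Φ_surjective 1 bb
  refine ⟨T, hT, e, b, fun f => ?_⟩
  refine isNat_of_Φ Q' ?_ _ ?_ f
  · refine ker_rTensor (p := p) Q.q Q.surj ?_
    exact le_of_eq (Submodule.ker_mkQ _)
  · have h1 : Q'.Φ 2 ((V.tens (e.mod.res ι)).d 1 b) = ((modp D V).tens e.mod).d 1 (Q'.Φ 1 b) :=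
      (LinearMap.congr_fun (Q'.Φ_d 1) b).symm
    have h2 : Q'.Φ 2 (cmap V (V.tens (e.mod.res ι)) (tmulR V (e.mod.res ι) 1) 2 c) =
        cmap (modp D V) ((modp D V).tens e.mod) (tmulR (modp D V) e.mod 1) 2 (Q.Φ 2 c) :=
      LinearMap.congr_fun (Q.Φ_cmap Q' (tmulR V (e.mod.res ι) 1) (tmulR (modp D V) e.mod 1)
        (LinearMap.ext fun v => rfl) 2) c
    rw [map_sub, h1, h2, hb, hbb, sub_self]

end final

end Groth.Agent.ResProp.EF.K44
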